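import Mathlib

/-!
# Resolutions of bounded below complexes by a cogenerating class of objects
-/

universe v u

open CategoryTheory Limits

namespace GrothLib.ClassRes

variable {A : Type u} [Category.{v} A] [Abelian A] (K : CochainComplex A ℤ) (I : A → Prop)

/-- Cokernel of the differential arriving in degree `n`. -/
noncomputable abbrev QK (n : ℤ) : A := cokernel (K.d (n - 1) n)

/-- The resolution in degree `n`: the object, and the cokernel of the differential arriving there. -/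
structure St (n : ℤ) where
  L : A
  hL : I L
  C : A
  j : K.X n ⟶ L
  hj : Mono j
  p : L ⟶ C
  hp : Epi p
  c : QK K n ⟶ C
  hc : Mono c
  w : cokernel.π (K.d (n - 1) n) ≫ c = j ≫ p

/-- Compatibility of two consecutive degrees through a differential. -/
structure Rel {m n : ℤ} (S : St K I m) (S' : St K I n) (d : S.L ⟶ S'.L) : Prop where
  comm : S.j ≫ d = K.d m n ≫ S'.j
  fac : ∃ e, d = S.p ≫ e
  exact_out : ∀ ⦃T : A⦄ (z : T ⟶ S'.L), z ≫ S'.p = 0 →
    ∃ (T' : A) (q : T' ⟶ T) (_ : Epi q) (x : T' ⟶ S.L), q ≫ z = x ≫ d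
  comp_out : d ≫ S'.p = 0
  surj : ∀ ⦃T : A⦄ (z : T ⟶ S.L), z ≫ d = 0 →
    ∃ (T' : A) (q : T' ⟶ T) (_ : Epi q) (y : T' ⟶ K.X m),
      y ≫ K.d m n = 0 ∧ q ≫ z ≫ S.p = y ≫ S.j ≫ S.p

variable {K I}

lemma exists_step (hI : ∀ X : A, ∃ (Y : A) (ι : X ⟶ Y), I Y ∧ Mono ι) (m n : ℤ) (hmn : m + 1 = n)
    (S : St K I m) : ∃ (S' : St K I n) (d : S.L ⟶ S'.L), Rel K I S S' d := by
  obtain rfl : m = n - 1 := by omega
  let dbar : QK K (n - 1) ⟶ K.X n := cokernel.desc _ (K.d (n - 1) n) (K.d_comp_d _ _ _)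
  let φ : QK K (n - 1) ⟶ S.C ⊞ K.X n := biprod.lift S.c (-dbar)
  let iC : S.C ⟶ cokernel φ := biprod.inl ≫ cokernel.π φ
  let iK : K.X n ⟶ cokernel φ := biprod.inr ≫ cokernel.π φ
  have hφ : S.c ≫ iC = dbar ≫ iK := by
    have h0 := cokernel.condition φ
    have : S.c ≫ iC - dbar ≫ iK = φ ≫ cokernel.π φ := by
      have e : φ = S.c ≫ biprod.inl + (-dbar) ≫ biprod.inr := by
        simp only [φ]; ext <;> simp
      conv_rhs => arg 1; rw [e]
      simp [iC, iK, sub_eq_add_neg]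
    exact sub_eq_zero.1 (this.trans h0)
  have hex : (ShortComplex.mk φ (cokernel.π φ) (cokernel.condition φ)).Exact :=
    ShortComplex.exact_cokernel φ
  -- a pair killed in the pushout comes from the source
  have key : ∀ ⦃T : A⦄ (z : T ⟶ S.C) (y : T ⟶ K.X n), z ≫ iC + y ≫ iK = 0 →
      ∃ (T' : A) (q : T' ⟶ T) (_ : Epi q) (u : T' ⟶ QK K (n - 1)),
        q ≫ z = u ≫ S.c ∧ q ≫ y = -(u ≫ dbar) := by
    intro T z y h
    obtain ⟨T', q, hq, u, hu⟩ := hex.exact_up_to_refinements (biprod.lift z y) (by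
      have e : biprod.lift z y = z ≫ biprod.inl + y ≫ biprod.inr := by ext <;> simp
      rw [e]
      simpa [iC, iK] using h)
    refine ⟨T', q, hq, u, ?_, ?_⟩
    · simpa [φ] using congrArg (· ≫ biprod.fst) hu
    · simpa [φ] using congrArg (· ≫ biprod.snd) hu
  haveI := S.hc
  have hiK : Mono iK := by
    refine Preadditive.mono_of_cancel_zero _ fun {T} y hy => ?_
    obtain ⟨T', q, hq, u, hu₁, hu₂⟩ := key 0 y (by rw [zero_comp, zero_add, hy])
    rw [comp_zero, eq_comm, ← zero_comp (f := S.c), cancel_mono] at hu₁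
    rw [← cancel_epi q, hu₂, hu₁, zero_comp, neg_zero, comp_zero]
  obtain ⟨Y, ι, hY, hι⟩ := hI (cokernel φ)
  let j : K.X n ⟶ Y := iK ≫ ι
  let d : S.L ⟶ Y := S.p ≫ iC ≫ ι
  have hcomm : S.j ≫ d = K.d (n - 1) n ≫ j := by
    have h1 : S.j ≫ S.p = cokernel.π _ ≫ S.c := S.w.symm
    simp only [d, j, reassoc_of% h1, reassoc_of% hφ]
    simp [dbar]
  let c : QK K n ⟶ cokernel d := cokernel.map _ _ S.j j hcomm.symm
  have hc : Mono c := by
    refine Preadditive.mono_of_cancel_zero _ fun {T} x hx => ?_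
    obtain ⟨T₁, q₁, hq₁, y, hy⟩ := surjective_up_to_refinements_of_epi (cokernel.π (K.d (n - 1) n)) x
    have h1 : (y ≫ j) ≫ cokernel.π d = 0 := by
      have h0 := congrArg (q₁ ≫ ·) hx
      simp only [comp_zero, ← Category.assoc, hy] at h0
      simpa [c, cokernel.map] using h0
    obtain ⟨T₂, q₂, hq₂, z, hz⟩ :=
      (ShortComplex.exact_cokernel d).exact_up_to_refinements (y ≫ j) h1
    have h2 : (-(z ≫ S.p)) ≫ iC + (q₂ ≫ y) ≫ iK = 0 := by
      have hz' : (q₂ ≫ y) ≫ iK ≫ ι = z ≫ d := by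
        rw [Category.assoc]; exact hz
      rw [← cancel_mono ι, zero_comp, Preadditive.add_comp, Category.assoc, Category.assoc (q₂ ≫ y), hz']
      simp [d]
    obtain ⟨T₃, q₃, hq₃, u, -, hu⟩ := key _ _ h2
    obtain ⟨T₄, q₄, hq₄, v, hv⟩ :=
      surjective_up_to_refinements_of_epi (cokernel.π (K.d (n - 1 - 1) (n - 1))) u
    have h3 : q₄ ≫ q₃ ≫ q₂ ≫ y = -(v ≫ K.d (n - 1) n) := by
      rw [hu, Preadditive.comp_neg, reassoc_of% hv]
      simp [dbar]
    rw [← cancel_epi q₁, ← cancel_epi q₂, ← cancel_epi q₃, ← cancel_epi q₄, hy, comp_zero,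
      comp_zero, comp_zero, comp_zero, reassoc_of% h3]
    simp
  refine ⟨{ L := Y, hL := hY, C := cokernel d, j := j, hj := mono_comp _ _, p := cokernel.π d,
            hp := inferInstance, c := c, hc := hc, w := cokernel.π_desc _ _ _ }, d,
    { comm := hcomm
      fac := ⟨iC ≫ ι, rfl⟩
      exact_out := fun T z hz => (ShortComplex.exact_cokernel d).exact_up_to_refinements z hz
      comp_out := cokernel.condition d
      surj := fun T z hz => ?_ }⟩
  have h2 : (z ≫ S.p) ≫ iC + (0 : T ⟶ K.X n) ≫ iK = 0 := by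
    rw [zero_comp, add_zero, ← cancel_mono ι, zero_comp, Category.assoc, Category.assoc]
    exact hz
  obtain ⟨T', q, hq, u, hu₁, hu₂⟩ := key _ _ h2
  obtain ⟨T'', q', hq', v, hv⟩ :=
    surjective_up_to_refinements_of_epi (cokernel.π (K.d (n - 1 - 1) (n - 1))) u
  refine ⟨T'', q' ≫ q, epi_comp _ _, v, ?_, ?_⟩
  · have h3 : u ≫ dbar = 0 := neg_eq_zero.1 (by rw [← hu₂, comp_zero])
    have h4 := congrArg (q' ≫ ·) h3
    simp only [comp_zero, ← Category.assoc, hv] at h4
    simpa [dbar] using h4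
  · rw [Category.assoc, hu₁, reassoc_of% hv, S.w]

/-- A state in a degree where `K` vanishes. -/
noncomputable def triv {n : ℤ} (hn : IsZero (K.X n)) {Z : A} (hZ : IsZero Z) (hIZ : I Z) :
    St K I n where
  L := Z
  hL := hIZ
  C := Z
  j := 0
  hj := ⟨fun _ _ _ => hn.eq_of_tgt _ _⟩
  p := 𝟙 Z
  hp := inferInstance
  c := 0
  hc := ⟨fun _ _ _ => (IsZero.of_epi (cokernel.π (K.d (n - 1) n)) hn).eq_of_tgt _ _⟩
  w := hZ.eq_of_tgt _ _

variable (hI : ∀ X : A, ∃ (Y : A) (ι : X ⟶ Y), I Y ∧ Mono ι) {Z : A} (hZ : IsZero Z) (hIZ : I Z)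
  (a : ℤ) (hK : ∀ n, n < a → IsZero (K.X n))

/-- The sequence of states. -/
noncomputable def states (n : ℤ) : St K I n :=
  if h : n < a then triv (hK n h) hZ hIZ
  else (exists_step hI (n - 1) n (by omega) (states (n - 1))).choose
termination_by (n + 1 - a).toNat
decreasing_by omega

lemma exists_rel (m n : ℤ) (hmn : m + 1 = n) :
    ∃ d, Rel K I (states hI hZ hIZ a hK m) (states hI hZ hIZ a hK n) d := by
  obtain rfl : m = n - 1 := by omega
  by_cases h : n < a
  · have e₁ : states hI hZ hIZ a hK n = triv (hK n h) hZ hIZ := by rw [states, dif_pos h]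
    have e₂ : states hI hZ hIZ a hK (n - 1) = triv (hK (n - 1) (by omega)) hZ hIZ := by
      rw [states, dif_pos (show n - 1 < a by omega)]
    rw [e₁, e₂]
    refine ⟨0, ⟨(hK (n - 1) (by omega)).eq_of_src _ _, ⟨0, hZ.eq_of_tgt _ _⟩,
      fun T z _ => ⟨T, 𝟙 T, inferInstance, 0, hZ.eq_of_tgt _ _⟩, hZ.eq_of_tgt _ _,
      fun T z _ => ⟨T, 𝟙 T, inferInstance, 0, zero_comp, hZ.eq_of_tgt _ _⟩⟩⟩
  · have e : states hI hZ hIZ a hK n =
        (exists_step hI (n - 1) n (by omega) (states hI hZ hIZ a hK (n - 1))).choose := by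
      conv_lhs => rw [states, dif_neg h]
    rw [e]
    exact (exists_step hI (n - 1) n (by omega) (states hI hZ hIZ a hK (n - 1))).choose_spec

include hI hZ hIZ hK in
/-- Resolution of a complex vanishing below `a` by a complex with terms in `I`. -/
theorem exists_resolution :
    ∃ (L : CochainComplex A ℤ) (α : K ⟶ L), L.IsStrictlyGE a ∧ (∀ n, I (L.X n)) ∧
      (∀ n, Mono (α.f n)) ∧ QuasiIso α := by
  let S := states hI hZ hIZ a hK
  choose dd hdd using fun n : ℤ => exists_rel hI hZ hIZ a hK n (n + 1) rfl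
  have hsq : ∀ n, dd n ≫ dd (n + 1) = 0 := fun n => by
    obtain ⟨e, he⟩ := (hdd (n + 1)).fac
    rw [he, reassoc_of% (hdd n).comp_out, zero_comp]
  let L : CochainComplex A ℤ := CochainComplex.of (fun n => (S n).L) dd hsq
  have hd : ∀ i, L.d i (i + 1) = dd i := fun i => CochainComplex.of_d (fun n => (S n).L) dd i
  let α : K ⟶ L :=
    { f := fun n => (S n).j
      comm' := fun i k hik => by
        obtain rfl : i + 1 = k := hik
        rw [hd]
        exact (hdd i).comm }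
  refine ⟨L, α, ?_, fun n => (S n).hL, fun n => (S n).hj, ⟨fun n => ?_⟩⟩
  · rw [CochainComplex.isStrictlyGE_iff]
    intro i hi
    change IsZero (S i).L
    simp only [S]
    rw [states, dif_pos hi]
    exact hZ
  obtain ⟨m, rfl⟩ : ∃ m, n = m + 1 := ⟨n - 1, by omega⟩
  rw [quasiIsoAt_iff_isIso_homologyMap]
  haveI : Mono (HomologicalComplex.homologyMap α (m + 1)) := by
    rw [HomologicalComplex.mono_homologyMap_iff_up_to_refinements α m (m + 1) (m + 1 + 1)
      (by simp) (by simp)]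
    intro T y hy z hz
    rw [hd] at hz
    haveI := (S (m + 1)).hc
    have h1 : y ≫ cokernel.π (K.d (m + 1 - 1) (m + 1)) = 0 := by
      rw [← cancel_mono (S (m + 1)).c, Category.assoc, (S (m + 1)).w, zero_comp, ← Category.assoc]
      refine (congrArg (· ≫ (S (m + 1)).p) hz).trans ?_
      rw [Category.assoc]
      exact (congrArg (z ≫ ·) (hdd m).comp_out).trans comp_zero
    obtain ⟨T', q, hq, x, hx⟩ := (ShortComplex.exact_cokernel _).exact_up_to_refinements y h1
    refine ⟨T', q, hq, x ≫ (HomologicalComplex.XIsoOfEq K (show m + 1 - 1 = m by omega)).hom, ?_⟩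
    rw [hx]
    simp
  haveI : Epi (HomologicalComplex.homologyMap α (m + 1)) := by
    rw [HomologicalComplex.epi_homologyMap_iff_up_to_refinements α m (m + 1) (m + 1 + 1)
      (by simp) (by simp)]
    intro T z hz
    rw [hd] at hz
    obtain ⟨T', q, hq, y, hy, hy'⟩ := (hdd (m + 1)).surj z hz
    obtain ⟨T'', q', hq', x, hx⟩ := (hdd m).exact_out (q ≫ z - y ≫ (S (m + 1)).j) (by
      rw [Preadditive.sub_comp, Category.assoc, Category.assoc, sub_eq_zero]
      exact hy')
    refine ⟨T'', q' ≫ q, epi_comp _ _, q' ≫ y, by rw [Category.assoc, hy, comp_zero], x, ?_⟩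
    rw [hd, ← hx]
    simp [α]
  exact isIso_of_mono_of_epi _

end GrothLib.ClassRes
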